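import Mathlib
import Groth.Prelude.Def_AlgGrp
import Groth.Agent.Lib.Helper24.NeronExt.SmoothQ
import Groth.Agent.Lib.Helper4.MaxOpenGrp
import Groth.Agent.Lib.Helper9.ProperOver4

/-!
# Helper24 — a homomorphism proper on a flat kernel with proper quotient is proper (SGA3 XVI)
-/

set_option backward.isDefEq.respectTransparency.types false

universe u
open CategoryTheory MonoidalCategory CartesianMonoidalCategory MonObj AlgebraicGeometry Limits
open Groth.Agent.Lib.Helper24.NeronExt

namespace Groth.Agent.Lib.Helper24.PropHom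

variable {S : Scheme.{u}}

section sigma

variable {G H : Over S} [GrpObj G] [GrpObj H] (u : G ⟶ H)

/-- `(g, h) ↦ (u(g) h, g)` -/
noncomputable def σ : G ⊗ H ⟶ H ⊗ G := lift ((fst G H ≫ u) * snd G H) (fst G H)

/-- `(h, g) ↦ (g, u(g)⁻¹ h)` -/
noncomputable def σinv : H ⊗ G ⟶ G ⊗ H := lift (snd H G) ((snd H G ≫ u)⁻¹ * fst H G)

omit [GrpObj G] in
theorem σ_σinv : σ u ≫ σinv u = 𝟙 _ := by
  apply CartesianMonoidalCategory.hom_ext
  · simp [σ, σinv]
  · simp only [σ, σinv, Category.assoc, lift_snd, Category.id_comp, MonObj.comp_mul,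
      GrpObj.comp_inv, lift_snd_assoc, lift_fst]
    group

omit [GrpObj G] in
theorem σinv_σ : σinv u ≫ σ u = 𝟙 _ := by
  apply CartesianMonoidalCategory.hom_ext
  · simp only [σ, σinv, Category.assoc, lift_fst, Category.id_comp, MonObj.comp_mul,
      lift_fst_assoc, lift_snd]
    group
  · simp [σ, σinv]

instance : IsIso (σ u) := ⟨σinv u, σ_σinv u, σinv_σ u⟩

end sigma

section main

open Groth.Agent.Lib.Helper4

variable {G G' G'' H : Over S} [GrpObj G] [GrpObj G'] [GrpObj G''] [GrpObj H]
  (p : G ⟶ G'') [IsMonHom p] (i : G' ⟶ G) [IsMonHom i] (u : G ⟶ H) [IsMonHom u]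

/-- `(g, g') ↦ (u(g i(g')), g)` -/
noncomputable def b : G ⊗ G' ⟶ H ⊗ G := lift (shear i ≫ u) (fst G G')

omit [GrpObj G'] [IsMonHom i] in
theorem b_eq : b i u = (G ◁ (i ≫ u)) ≫ σ u := by
  apply CartesianMonoidalCategory.hom_ext
  · simp only [b, σ, shear, lift_fst, Category.assoc, MonObj.mul_comp, MonObj.comp_mul,
      whiskerLeft_fst_assoc, whiskerLeft_snd]
  · simp [b, σ]

omit [GrpObj H] [IsMonHom u] in
theorem isPullback_b (hker : AlgGrp.IsKernel i p) :
    IsPullback (b i u).left (shear i).left (H ◁ p).left (lift u p).left := by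
  have t := MaxOpenGrp.isPullback_whiskerLeft H G G'' p
  have s := (isPullback_shear hker).map (Over.forget S)
  simp only [Over.forget_map] at s
  have e1 : (b i u).left ≫ (snd H G).left = (fst G G').left := by
    rw [← Over.comp_left, b, lift_snd]
  have e2 : (lift u p).left ≫ (snd H G'').left = p.left := by
    rw [← Over.comp_left, lift_snd]
  have s' : IsPullback ((b i u).left ≫ (snd H G).left) (shear i).left p.left
      ((lift u p).left ≫ (snd H G'').left) := by
    rw [e1, e2]; exact s
  refine IsPullback.of_right s' ?_ t.flip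
  rw [← Over.comp_left, ← Over.comp_left]
  congr 1
  apply CartesianMonoidalCategory.hom_ext
  · simp [b]
  · simp only [b, Category.assoc, whiskerLeft_snd, lift_snd_assoc, lift_snd]
    have := (isPullback_shear hker).w
    exact this

theorem isProper_lift [QuasiCompact p.left] [Surjective p.left] [Flat p.left]
    (hker : AlgGrp.IsKernel i p) (hu : IsProper (i ≫ u).left) : IsProper (lift u p).left := by
  have t := MaxOpenGrp.isPullback_whiskerLeft H G G'' p
  haveI : Surjective (H ◁ p).left :=
    MorphismProperty.of_isPullback (P := @Surjective) t.flip inferInstance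
  haveI : Flat (H ◁ p).left :=
    MorphismProperty.of_isPullback (P := @Flat) t.flip inferInstance
  haveI : QuasiCompact (H ◁ p).left :=
    MorphismProperty.of_isPullback (P := @QuasiCompact) t.flip inferInstance
  -- `b` is proper
  have t' := MaxOpenGrp.isPullback_whiskerLeft G G' H (i ≫ u)
  have h1 : IsProper (G ◁ (i ≫ u)).left :=
    MorphismProperty.of_isPullback (P := @IsProper) t'.flip hu
  haveI : IsIso (σ u).left := inferInstanceAs (IsIso ((Over.forget S).map (σ u)))
  have h2 : IsProper (b i u).left := by
    rw [b_eq, Over.comp_left]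
    infer_instance
  -- descent
  have sq := isPullback_b p i u hker
  have h3 : IsProper (pullback.snd (lift u p).left (H ◁ p).left) := by
    have e : pullback.snd (lift u p).left (H ◁ p).left = sq.flip.isoPullback.inv ≫ (b i u).left := by
      rw [Iso.eq_inv_comp]
      exact sq.flip.isoPullback_hom_snd
    rw [e]
    infer_instance
  exact Groth.Agent.Lib.Helper9.ProperOver.isProper_of_pullback_snd_fpqc _ _ h3

theorem main5415 [QuasiCompact G.hom] [IsProper G''.hom] [Surjective p.left] [Flat p.left]
    (hker : AlgGrp.IsKernel i p) (hu : IsProper (i ≫ u).left) : IsProper u.left := by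
  haveI : QuasiCompact (p.left ≫ G''.hom) := by rw [Over.w]; infer_instance
  haveI : QuasiCompact p.left := QuasiCompact.of_comp p.left G''.hom
  have h4 : IsProper (lift u p).left := isProper_lift p i u hker hu
  have h5 : IsProper (fst H G'').left := by
    rw [Over.fst_left]
    infer_instance
  have e : u.left = (lift u p).left ≫ (fst H G'').left := by
    rw [← Over.comp_left, lift_fst]
  rw [e]
  infer_instance

end main

end Groth.Agent.Lib.Helper24.PropHom
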