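import Mathlib
import Groth.Prelude.Def_AlgGrp
import Groth.Agent.Lib.Helper24.PropHom.Main5415
import Groth.Agent.Lib.Helper24.KerProp.Basic

/-!
# Helper24 — the five lemma for closed immersions of group schemes
-/

set_option backward.isDefEq.respectTransparency.types false

universe u
open CategoryTheory MonoidalCategory CartesianMonoidalCategory MonObj AlgebraicGeometry Limits

namespace Groth.Agent.Lib.Helper24.PropHom

variable {S : Scheme.{u}}
  {H₁' H₁ H₁'' H₂' H₂ H₂'' : Over S} [GrpObj H₁'] [GrpObj H₁] [GrpObj H₁''] [GrpObj H₂'] [GrpObj H₂]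
  [GrpObj H₂'']
  (a₁ : H₁' ⟶ H₁) (b₁ : H₁ ⟶ H₁'') (a₂ : H₂' ⟶ H₂) (b₂ : H₂ ⟶ H₂'')
  [IsMonHom a₁] [IsMonHom b₁] [IsMonHom a₂] [IsMonHom b₂]
  (j' : H₁' ⟶ H₂') (j : H₁ ⟶ H₂) (j'' : H₁'' ⟶ H₂'') [IsMonHom j'] [IsMonHom j] [IsMonHom j'']

include a₁ b₁ a₂ b₂ j' j'' in
theorem mono_middle (h₁ : AlgGrp.IsKernel a₁ b₁) (h₂ : AlgGrp.IsKernel a₂ b₂)
    (sq₁ : a₁ ≫ j = j' ≫ a₂) (sq₂ : b₁ ≫ j'' = j ≫ b₂) [Mono j'] [Mono j''] : Mono j := by
  haveI := KerProp.mono_of_isKernel h₂
  have key : ∀ {T : Over S} (z : T ⟶ H₁), z ≫ j = 1 → z = 1 := by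
    intro T z hz
    have h1 : z ≫ b₁ = 1 := by
      rw [← cancel_mono j'', Category.assoc, sq₂, ← Category.assoc, hz, MonObj.one_comp,
        MonObj.one_comp]
    obtain ⟨n, rfl⟩ := KerProp.exists_of_comp_eq_one h₁ z h1
    have h2 : n ≫ j' = 1 := by
      rw [← cancel_mono a₂, Category.assoc, ← sq₁, ← Category.assoc, hz, MonObj.one_comp]
    have h3 : n = 1 := by
      rw [← cancel_mono j', h2, MonObj.one_comp]
    rw [h3, MonObj.one_comp]
  constructor
  intro T x y hxy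
  have : (x * y⁻¹) ≫ j = 1 := by
    rw [MonObj.mul_comp, GrpObj.inv_comp, hxy, mul_inv_cancel]
  have := key _ this
  exact mul_inv_eq_one.mp this

theorem isClosedImmersion_unit (G : Over S) [GrpObj G] [IsSeparated G.hom] :
    IsClosedImmersion η[G].left := by
  have h : η[G].left ≫ G.hom = 𝟙 _ := by
    rw [Over.w η[G]]
    rfl
  haveI : IsClosedImmersion (η[G].left ≫ G.hom) := by rw [h]; infer_instance
  exact IsClosedImmersion.of_comp η[G].left G.hom

omit [GrpObj H₂'] [IsMonHom a₂] in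
theorem isClosedImmersion_kernel [IsSeparated H₂''.hom] (h₂ : AlgGrp.IsKernel a₂ b₂) :
    IsClosedImmersion a₂.left := by
  have sq := h₂.map (Over.forget S)
  simp only [Over.forget_map] at sq
  exact MorphismProperty.of_isPullback (P := @IsClosedImmersion) sq.flip
    (isClosedImmersion_unit H₂'')

include a₁ b₁ a₂ b₂ j' j'' in
theorem isClosedImmersion_middle [QuasiCompact H₁.hom] [IsSeparated H₁''.hom]
    [IsSeparated H₂''.hom]
    (h₁ : AlgGrp.IsKernel a₁ b₁) [Flat b₁.left] [Surjective b₁.left]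
    (h₂ : AlgGrp.IsKernel a₂ b₂)
    (sq₁ : a₁ ≫ j = j' ≫ a₂) (sq₂ : b₁ ≫ j'' = j ≫ b₂)
    [IsClosedImmersion j'.left] [IsClosedImmersion j''.left] :
    IsClosedImmersion j.left := by
  -- mono
  haveI : Mono j'.left := inferInstance
  haveI : Mono j''.left := inferInstance
  haveI : Mono j' := (Over.forget S).mono_of_mono_map ‹Mono j'.left›
  haveI : Mono j'' := (Over.forget S).mono_of_mono_map ‹Mono j''.left›
  haveI : Mono j := mono_middle a₁ b₁ a₂ b₂ j' j j'' h₁ h₂ sq₁ sq₂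
  haveI : Mono j.left := inferInstance
  -- proper
  haveI : QuasiCompact (b₁.left ≫ H₁''.hom) := by rw [Over.w]; infer_instance
  haveI : QuasiCompact b₁.left := QuasiCompact.of_comp b₁.left H₁''.hom
  haveI := isClosedImmersion_kernel a₂ b₂ h₂
  have hu : IsProper (a₁ ≫ j).left := by
    rw [sq₁, Over.comp_left]
    infer_instance
  have hv : IsProper (lift j b₁).left := isProper_lift b₁ a₁ j h₁ hu
  -- compose with `H₂ ◁ j''`
  have t := Groth.Agent.Lib.Helper4.MaxOpenGrp.isPullback_whiskerLeft H₂ H₁'' H₂'' j''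
  haveI : IsClosedImmersion (H₂ ◁ j'').left :=
    MorphismProperty.of_isPullback (P := @IsClosedImmersion) t.flip inferInstance
  have e : (lift j b₁) ≫ (H₂ ◁ j'') = j ≫ lift (𝟙 H₂) b₂ := by
    apply CartesianMonoidalCategory.hom_ext
    · simp
    · simp [sq₂]
  -- the graph of `b₂` is separated
  have hΓ : (lift (𝟙 H₂) b₂).left ≫ (fst H₂ H₂'').left = 𝟙 _ := by
    rw [← Over.comp_left, lift_fst]
    rfl
  haveI : Mono (lift (𝟙 H₂) b₂).left := mono_of_mono_fac hΓ
  haveI : IsProper (j.left ≫ (lift (𝟙 H₂) b₂).left) := by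
    rw [← Over.comp_left, ← e, Over.comp_left]
    infer_instance
  haveI : IsProper j.left := IsProper.of_comp j.left (lift (𝟙 H₂) b₂).left
  exact (IsClosedImmersion.iff_isProper_and_mono j.left).2 ⟨inferInstance, inferInstance⟩

end Groth.Agent.Lib.Helper24.PropHom
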